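import Groth.Agent.DimTrdeg.Basic
import Mathlib

/-!
# Towers of one-generator extensions are global complete intersections
-/

set_option autoImplicit false
set_option linter.style.haveILetI false
universe u

open Polynomial

namespace Groth.Agent.GciChain

variable {k K : Type u} [Field k] [Field K] [Algebra k K]

/-- A presentation of `A` by `N` generators and `c` relations with `trdeg A + c = N`. -/
def Inv (A : Subalgebra k K) : Prop :=
  ∃ (N c : ℕ) (φ : MvPolynomial (Fin N) k →ₐ[k] K) (r : Fin c → MvPolynomial (Fin N) k),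
    φ.range = A ∧ RingHom.ker φ = Ideal.span (Set.range r) ∧ Algebra.trdeg k A + c = N

theorem inv_bot : Inv (⊥ : Subalgebra k K) := by
  refine ⟨0, 0, MvPolynomial.aeval Fin.elim0, Fin.elim0, ?_, ?_, ?_⟩
  · rw [← Algebra.adjoin_range_eq_range_aeval, Set.range_eq_empty, Algebra.adjoin_empty]
  · rw [Set.range_eq_empty, Ideal.span_empty, (RingHom.injective_iff_ker_eq_bot _).1]
    intro a b hab
    obtain ⟨a', rfl⟩ := MvPolynomial.C_surjective (Fin 0) a
    obtain ⟨b', rfl⟩ := MvPolynomial.C_surjective (Fin 0) b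
    simp only [MvPolynomial.aeval_C] at hab
    rw [(algebraMap k K).injective hab]
  · haveI : Algebra.IsAlgebraic k (⊥ : Subalgebra k K) :=
      ⟨fun x => by
        obtain ⟨a, ha⟩ := Algebra.mem_bot.1 x.2
        rw [show x = algebraMap k (⊥ : Subalgebra k K) a from Subtype.ext ha.symm]
        exact isAlgebraic_algebraMap a⟩
    rw [trdeg_eq_zero (R := k) (A := (⊥ : Subalgebra k K))]
    simp

/-- Adjoining one element whose ideal of relations is principal. -/
theorem inv_step {A : Subalgebra k K} (hA : Inv A) (e : K) (P : (↥A)[X])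
    (hP : RingHom.ker (aeval e : (↥A)[X] →ₐ[↥A] K) = Ideal.span {P}) :
    Inv ((Algebra.adjoin ↥A {e}).restrictScalars k) := by
  classical
  obtain ⟨N, c, φ, r, hrange, hker, htr⟩ := hA
  subst hrange
  let ψ : MvPolynomial (Fin N) k →ₐ[k] φ.range := φ.rangeRestrict
  have hψ : Function.Surjective ψ := φ.rangeRestrict_surjective
  have hψk : RingHom.ker ψ.toRingHom = Ideal.span (Set.range r) := by
    rw [← hker]
    ext x
    simp only [RingHom.mem_ker, AlgHom.toRingHom_eq_coe, RingHom.coe_coe]
    exact ⟨fun h => congrArg Subtype.val h, fun h => Subtype.ext h⟩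
  let E := MvPolynomial.finSuccEquiv k N
  let M : (MvPolynomial (Fin N) k)[X] →+* (↥φ.range)[X] := mapRingHom ψ.toRingHom
  have hM : Function.Surjective M := map_surjective ψ.toRingHom hψ
  let Φ : MvPolynomial (Fin (N + 1)) k →ₐ[k] K :=
    { ((aeval e : (↥φ.range)[X] →ₐ[↥φ.range] K).toRingHom.comp M).comp E.toRingEquiv.toRingHom with
      commutes' := fun a => by
        show aeval e (M (E (algebraMap k _ a))) = _
        rw [AlgEquiv.commutes, IsScalarTower.algebraMap_apply k (MvPolynomial (Fin N) k) (MvPolynomial (Fin N) k)[X],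
          Polynomial.algebraMap_eq]
        show aeval e (map ψ.toRingHom (C (algebraMap k (MvPolynomial (Fin N) k) a))) = _
        rw [map_C, aeval_C]
        exact congrArg Subtype.val (ψ.commutes a) }
  obtain ⟨P', hP'⟩ := hM P
  have hΦrange : Φ.range = (Algebra.adjoin ↥φ.range {e}).restrictScalars k := by
    ext x
    rw [Subalgebra.mem_restrictScalars, Algebra.adjoin_singleton_eq_range_aeval, AlgHom.mem_range, AlgHom.mem_range]
    constructor
    · rintro ⟨y, rfl⟩; exact ⟨M (E y), rfl⟩
    · rintro ⟨q, rfl⟩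
      obtain ⟨q', rfl⟩ := hM q
      exact ⟨E.symm q', by show aeval e (M (E (E.symm q'))) = _; rw [E.apply_symm_apply]⟩
  have hΦker : RingHom.ker Φ = Ideal.span (insert (E.symm P') ((fun i => E.symm (C (r i))) '' Set.univ)) := by
    have h1 : RingHom.ker ((aeval e : (↥φ.range)[X] →ₐ[↥φ.range] K).toRingHom.comp M) =
        Ideal.span (insert P' (C '' Set.range r)) := by
      rw [← RingHom.comap_ker]
      show Ideal.comap M (RingHom.ker (aeval e : (↥φ.range)[X] →ₐ[↥φ.range] K)) = _
      rw [hP, ← hP', ← Set.image_singleton, ← Ideal.map_span, Ideal.comap_map_of_surjective' _ hM,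
        Ideal.span_insert]
      congr 1
      show RingHom.ker (mapRingHom ψ.toRingHom) = _
      rw [Polynomial.ker_mapRingHom, hψk, Ideal.map_span]
    ext x
    rw [RingHom.mem_ker]
    show aeval e (M (E x)) = 0 ↔ _
    rw [show (aeval e (M (E x)) = 0) = (E x ∈ RingHom.ker ((aeval e : (↥φ.range)[X] →ₐ[↥φ.range] K).toRingHom.comp M))
      from rfl, h1, ← Set.range_comp', Set.image_univ]
    constructor
    · intro hx
      have := Ideal.mem_map_of_mem E.symm.toRingEquiv.toRingHom hx
      rw [Ideal.map_span, Set.image_insert_eq, ← Set.range_comp'] at this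
      simpa using this
    · intro hx
      have := Ideal.mem_map_of_mem E.toRingEquiv.toRingHom hx
      rw [Ideal.map_span, Set.image_insert_eq, ← Set.range_comp'] at this
      simpa using this
  let A'' := Algebra.adjoin ↥φ.range {e}
  have hadd : Algebra.trdeg k A'' = Algebra.trdeg k φ.range + Algebra.trdeg ↥φ.range A'' := by
    haveI : FaithfulSMul ↥φ.range A'' := (faithfulSMul_iff_algebraMap_injective _ _).mpr fun a b h =>
      Subtype.ext (congrArg (fun t : A'' => (t : K)) h)
    exact (trdeg_add_eq k φ.range (A := A'')).symm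
  have hcongr : Algebra.trdeg k ↥((Algebra.adjoin ↥φ.range {e}).restrictScalars k) = Algebra.trdeg k A'' := rfl
  by_cases hP0 : P = 0
  · subst hP0
    refine ⟨N + 1, c, Φ, fun i => E.symm (C (r i)), hΦrange, ?_, ?_⟩
    · rw [hΦker, Set.image_univ, Ideal.span_insert, sup_eq_right, Ideal.span_singleton_le_iff_mem]
      have h0 : P' ∈ Ideal.span (C '' Set.range r) := by
        rw [← Ideal.map_span, ← hψk, ← Polynomial.ker_mapRingHom]
        exact hP'
      have := Ideal.mem_map_of_mem E.symm.toRingEquiv.toRingHom h0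
      rw [Ideal.map_span, ← Set.range_comp, ← Set.range_comp] at this
      exact this
    · have hinj : Function.Injective (aeval e : (↥φ.range)[X] →ₐ[↥φ.range] K) :=
        (injective_iff_map_eq_zero _).2 fun Q hQ => by
          have : Q ∈ Ideal.span {(0 : (↥φ.range)[X])} := hP ▸ RingHom.mem_ker.2 hQ
          simpa using this
      have h1 : Algebra.trdeg ↥φ.range A'' = 1 := by
        rw [← ((AlgEquiv.ofInjective _ hinj).trans (Subalgebra.equivOfEq _ _
          (Algebra.adjoin_singleton_eq_range_aeval ↥φ.range e).symm)).trdeg_eq, Polynomial.trdeg_of_isDomain]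
      rw [hcongr, hadd, h1, Nat.cast_add, Nat.cast_one, ← htr]
      abel
  · refine ⟨N + 1, c + 1, Φ, Fin.cons (E.symm P') fun i => E.symm (C (r i)), hΦrange, ?_, ?_⟩
    · rw [hΦker, Fin.range_cons, Set.image_univ]
    · have halg : IsAlgebraic ↥φ.range e := ⟨P, hP0, by
        have : P ∈ RingHom.ker (aeval e : (↥φ.range)[X] →ₐ[↥φ.range] K) := hP ▸ Ideal.subset_span rfl
        exact this⟩
      haveI : Algebra.IsAlgebraic ↥φ.range A'' :=
        (Subalgebra.isAlgebraic_iff _).1 fun x hx =>
          (Algebra.adjoin_le (Set.singleton_subset_iff.2 halg) : A'' ≤ Subalgebra.algebraicClosure ↥φ.range K) hx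
      rw [hcongr, hadd, trdeg_eq_zero (R := φ.range) (A := A''), add_zero, Nat.cast_add, Nat.cast_add, ← htr,
        Nat.cast_one, add_assoc]

/-- Inverting an element. -/
theorem inv_inv' {A : Subalgebra k K} (hA : Inv A) (g : A) (hg : g ≠ 0) :
    ∃ B : Subalgebra k K, Inv B ∧ A ≤ B ∧ (g : K)⁻¹ ∈ B ∧ ∀ b ∈ B, ∃ n : ℕ, (g : K) ^ n * b ∈ A := by
  have hg' : (g : K) ≠ 0 := fun h => hg (Subtype.ext h)
  have hker : RingHom.ker (aeval ((g : K)⁻¹) : (↥A)[X] →ₐ[↥A] K) = Ideal.span {C g * X - 1} := by
    have h0 : aeval ((g : K)⁻¹) (C g * X - 1 : (↥A)[X]) = 0 := by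
      simp only [map_sub, map_mul, aeval_C, aeval_X, map_one]
      exact sub_eq_zero.2 (mul_inv_cancel₀ hg')
    refine le_antisymm (fun Q hQ => ?_) ((Ideal.span_singleton_le_iff_mem _).2 (RingHom.mem_ker.2 h0))
    let e := Localization.awayEquivAdjoin g
    have hu : IsUnit (algebraMap ↥A K g) := isUnit_iff_ne_zero.2 hg'
    let ι : Localization.Away g →+* K := IsLocalization.Away.lift g hu
    have hι : Function.Injective ι := by
      refine (IsLocalization.lift_injective_iff _).2 fun x y => ⟨fun h => congrArg _ ?_, fun h => congrArg _ ?_⟩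
      · exact IsLocalization.injective _ (powers_le_nonZeroDivisors_of_noZeroDivisors hg) h
      · exact Subtype.ext h
    have e1 : ι.comp ((e.symm : AdjoinRoot (C g * X - 1) →+* Localization.Away g).comp (AdjoinRoot.mk _)) =
        (aeval ((g : K)⁻¹) : (↥A)[X] →ₐ[↥A] K).toRingHom := by
      refine Polynomial.ringHom_ext (fun a => ?_) ?_
      · show ι (e.symm (AdjoinRoot.of _ a)) = aeval _ (C a)
        rw [← AdjoinRoot.algebraMap_eq, AlgEquiv.commutes, IsLocalization.Away.lift_eq, aeval_C]
      · show ι (e.symm (AdjoinRoot.root _)) = aeval _ X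
        rw [aeval_X]
        refine eq_inv_of_mul_eq_one_right ?_
        rw [show (g : K) = ι (algebraMap ↥A (Localization.Away g) g) from (IsLocalization.Away.lift_eq g hu g).symm,
          ← e.symm.commutes g, ← map_mul, ← map_mul, AdjoinRoot.algebraMap_eq,
          show AdjoinRoot.of (C g * X - 1) g * AdjoinRoot.root (C g * X - 1) = 1 by
            have := AdjoinRoot.eval₂_root (C g * X - 1)
            simp only [eval₂_sub, eval₂_mul, eval₂_C, eval₂_X, eval₂_one, sub_eq_zero] at this
            exact this, map_one, map_one]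
    have h2 := (RingHom.congr_fun e1 Q).trans (RingHom.mem_ker.1 hQ)
    have h3 : AdjoinRoot.mk (C g * X - 1) Q = 0 := e.symm.injective (hι (by simpa using h2))
    exact Ideal.mem_span_singleton.2 (AdjoinRoot.mk_eq_zero.1 h3)
  refine ⟨_, inv_step hA _ _ hker, fun a ha => (Algebra.adjoin ↥A _).algebraMap_mem ⟨a, ha⟩,
    Algebra.subset_adjoin rfl, fun b hb => ?_⟩
  rw [Subalgebra.mem_restrictScalars, Algebra.adjoin_singleton_eq_range_aeval] at hb
  obtain ⟨Q, rfl⟩ := hb
  refine ⟨Q.natDegree, ?_⟩
  show (g : K) ^ Q.natDegree * aeval ((g : K)⁻¹) Q ∈ A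
  rw [aeval_eq_sum_range,
    Finset.mul_sum]
  refine Subalgebra.sum_mem _ fun i hi => ?_
  have hi' : i ≤ Q.natDegree := Nat.lt_succ_iff.1 (Finset.mem_range.1 hi)
  rw [Algebra.smul_def, inv_pow, mul_left_comm, ← pow_sub₀ _ hg' hi']
  exact mul_mem (Q.coeff i).2 (pow_mem g.2 _)

/-- One more element. -/
theorem exists_inv_mem {A : Subalgebra k K} (hA : Inv A) (e : K) :
    ∃ B : Subalgebra k K, Inv B ∧ A ≤ B ∧ e ∈ B := by
  classical
  by_cases halg : IsAlgebraic ↥A e
  · have hex : ∃ d, ∃ Q : (↥A)[X], Q ≠ 0 ∧ aeval e Q = 0 ∧ Q.natDegree = d := by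
      obtain ⟨Q, hQ0, hQ⟩ := halg
      exact ⟨_, Q, hQ0, hQ, rfl⟩
    obtain ⟨Q, hQ0, hQ, hQd⟩ := Nat.find_spec hex
    have hg : Q.leadingCoeff ≠ 0 := leadingCoeff_ne_zero.2 hQ0
    obtain ⟨B, hB, hAB, hinv, hden⟩ := inv_inv' hA Q.leadingCoeff hg
    have hg' : ((Q.leadingCoeff : A) : K) ≠ 0 := fun h => hg (Subtype.ext h)
    let j : A →+* B := (Subalgebra.inclusion hAB).toRingHom
    have hj : Function.Injective j := fun a b h => Subtype.ext (congrArg (fun t : B => (t : K)) h)
    let u : B := ⟨_, hinv⟩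
    let P : (↥B)[X] := C u * Q.map j
    have hPm : P.Monic := by
      rw [Monic, leadingCoeff_mul, leadingCoeff_C, leadingCoeff_map_of_injective hj]
      exact Subtype.ext (inv_mul_cancel₀ hg')
    have hPd : P.natDegree = Nat.find hex := by
      rw [natDegree_C_mul (fun h : u = 0 => inv_ne_zero hg' (congrArg (fun t : B => (t : K)) h)),
        natDegree_map_eq_of_injective hj, hQd]
    have hP0 : aeval e P = 0 := by
      rw [map_mul, show aeval e (map j Q) = aeval e Q by rw [aeval_def, aeval_def, eval₂_map]; rfl, hQ, mul_zero]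
    have hker : RingHom.ker (aeval e : (↥B)[X] →ₐ[↥B] K) = Ideal.span {P} := by
      refine le_antisymm (fun R hR => ?_) ((Ideal.span_singleton_le_iff_mem _).2 (RingHom.mem_ker.2 hP0))
      rw [Ideal.mem_span_singleton, ← modByMonic_eq_zero_iff_dvd hPm]
      by_contra hne
      set S := R %ₘ P
      have hS : aeval e S = 0 := by
        have := congrArg (aeval e) (modByMonic_add_div R P)
        rw [map_add, map_mul, hP0, zero_mul, add_zero, RingHom.mem_ker.1 hR] at this
        exact this
      have hSd : S.natDegree < Nat.find hex := by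
        rw [← hPd]
        refine natDegree_modByMonic_lt R hPm fun h1 => ?_
        rw [h1, map_one] at hP0
        exact one_ne_zero hP0
      choose n hn using fun i : ℕ => hden (S.coeff i : K) (S.coeff i).2
      let m := (Finset.range (S.natDegree + 1)).sup n
      have hmem : ∀ i, (Q.leadingCoeff : K) ^ m * (S.coeff i : K) ∈ A := fun i => by
        by_cases hi : i ≤ S.natDegree
        · obtain ⟨l, hl⟩ : ∃ l, m = l + n i :=
            ⟨m - n i, (Nat.sub_add_cancel (Finset.le_sup (Finset.mem_range.2 (Nat.lt_succ_of_le hi)))).symm⟩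
          rw [hl, pow_add, mul_assoc]
          exact mul_mem (pow_mem Q.leadingCoeff.2 _) (hn i)
        · rw [coeff_eq_zero_of_natDegree_lt (not_le.1 hi)]
          simp
      let T : (↥A)[X] := ∑ i ∈ Finset.range (S.natDegree + 1), monomial i ⟨_, hmem i⟩
      have hTmap : T.map j = C (j Q.leadingCoeff) ^ m * S := by
        ext i
        simp only [T, Polynomial.map_sum, map_monomial, finset_sum_coeff, coeff_monomial, ← C_pow, coeff_C_mul,
          Finset.sum_ite_eq', Finset.mem_range]
        split_ifs with hi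
        · rfl
        · rw [coeff_eq_zero_of_natDegree_lt (by omega)]
          simp
      have hT0 : T ≠ 0 := fun h => by
        rw [h, Polynomial.map_zero, eq_comm, mul_eq_zero, pow_eq_zero_iff', C_eq_zero] at hTmap
        rcases hTmap with ⟨h1, -⟩ | h1
        · exact hg (hj (h1.trans (map_zero j).symm))
        · exact hne h1
      refine (Nat.find_min hex (lt_of_le_of_lt ?_ hSd)) ⟨T, hT0, ?_, rfl⟩
      · exact (natDegree_sum_le_of_forall_le _ _ fun i hi =>
          (natDegree_monomial_le _).trans (Nat.lt_succ_iff.1 (Finset.mem_range.1 hi)))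
      · have : aeval e (T.map j) = 0 := by rw [hTmap, map_mul, hS, mul_zero]
        rwa [show aeval e (map j T) = aeval e T by rw [aeval_def, aeval_def, eval₂_map]; rfl] at this
    exact ⟨_, inv_step hB e P hker, fun a ha => (Algebra.adjoin ↥B _).algebraMap_mem ⟨a, hAB ha⟩,
      Algebra.subset_adjoin rfl⟩
  · refine ⟨_, inv_step hA e 0 ?_, fun a ha => (Algebra.adjoin ↥A _).algebraMap_mem ⟨a, ha⟩,
      Algebra.subset_adjoin rfl⟩
    rw [Set.singleton_zero, Ideal.span_zero]
    refine (Submodule.eq_bot_iff _).2 fun Q hQ => ?_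
    by_contra h
    exact halg ⟨Q, h, RingHom.mem_ker.1 hQ⟩

theorem exists_inv_superset (E : Finset K) : ∃ A : Subalgebra k K, (E : Set K) ⊆ A ∧ Inv A := by
  classical
  induction E using Finset.induction with
  | empty => exact ⟨⊥, by simp, inv_bot⟩
  | insert e E _ ih =>
    obtain ⟨A, hEA, hA⟩ := ih
    obtain ⟨B, hB, hAB, he⟩ := exists_inv_mem hA e
    exact ⟨B, by rw [Finset.coe_insert]; exact Set.insert_subset he (hEA.trans hAB), hB⟩

theorem exists_presentation {A : Subalgebra k K} (hA : Inv A) : ∃ n c : ℕ, c ≤ n ∧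
    ∃ (φ : MvPolynomial (Fin n) k →ₐ[k] A) (r : Fin c → MvPolynomial (Fin n) k),
      Function.Surjective φ ∧ RingHom.ker φ.toRingHom = Ideal.span (Set.range r) ∧
        ringKrullDim A = ((n - c : ℕ) : WithBot ℕ∞) := by
  obtain ⟨N, c, φ, r, rfl, hker, htr⟩ := hA
  haveI : Algebra.FiniteType k φ.range :=
    Algebra.FiniteType.of_surjective φ.rangeRestrict φ.rangeRestrict_surjective
  obtain ⟨d, hd, hdim⟩ := DimTrdeg.exists_trdeg_eq_ringKrullDim k φ.range
  rw [hd, ← Nat.cast_add, Nat.cast_inj] at htr
  refine ⟨N, c, by omega, φ.rangeRestrict, r, φ.rangeRestrict_surjective, ?_, ?_⟩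
  · rw [← hker]
    ext x
    simp only [RingHom.mem_ker, AlgHom.toRingHom_eq_coe, RingHom.coe_coe]
    exact ⟨fun h => congrArg Subtype.val h, fun h => Subtype.ext h⟩
  · rw [hdim, show N - c = d by omega]

end Groth.Agent.GciChain
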